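import Cfsg.Agent.Lib.Blocks.PairSingular
import Cfsg.Agent.Lib.Blocks.Constrained
import Cfsg.Agent.Lib.Blocks.RegularSum
import Cfsg.Agent.Lib.Blocks.Real
import Cfsg.Agent.Lib.Blocks.SubsectionRow

/-!
Sections whose centraliser is, modulo a normal subgroup of order prime to `p`, a group with a self-centralising
normal `p`-subgroup: principal characters are constant on the cosets, the others sum to zero on them.
-/

set_option autoImplicit false
set_option linter.unusedSectionVars false
set_option linter.style.haveILetI false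

namespace Cfsg.Agent.GridBlock

open Cfsg Cfsg.Agent.Char Cfsg.Agent.Blocks
open scoped ComplexConjugate

universe u

variable {G : Type u} [Group G] [Fintype G] {p : ℕ} {M : Ideal AlgInt} [M.IsPrime]
  {C : Subgroup G} [Fintype C] (N : Subgroup C) [N.Normal]

/-- Characters trivial on the core are in the principal block. -/
theorem mem_principalBlock_of_trivialOn (hM : IsPModular p M) [Fintype (C ⧸ N)] (S : Subgroup (C ⧸ N))
    [S.Normal] (hSp : IsPGroup p S) (hSc : Subgroup.centralizer (S : Set (C ⧸ N)) ≤ S) {φ : IrrCharacter C}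
    (h : ∀ x ∈ N, (φ : C → ℂ) x = (φ : C → ℂ) 1) : φ ∈ principalBlock M C := by
  obtain ⟨f, -, hfe, hirr⟩ := IsCharacter.deflate (irr_isCharacter φ) N h
  let ψ : IrrCharacter (C ⧸ N) := ⟨f, hirr φ.2⟩
  have hψ : ψ ∈ principalBlock M (C ⧸ N) :=
    sameBlock_of_centralizer_le hM S hSp hSc (Char.principal _) ψ
  rw [mem_principalBlock_iff] at hψ ⊢
  intro c
  set a := QuotientGroup.mk' N c with ha
  obtain ⟨k, hk⟩ : (Subgroup.centralizer ({a} : Set (C ⧸ N))).index ∣
      (Subgroup.centralizer ({c} : Set C)).index := by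
    refine (Subgroup.index_dvd_of_le ?_).trans
      (Subgroup.index_map_dvd _ (QuotientGroup.mk'_surjective N))
    rintro _ ⟨g, hg, rfl⟩
    rw [SetLike.mem_coe, Subgroup.mem_centralizer_singleton_iff] at hg
    rw [Subgroup.mem_centralizer_singleton_iff, ha, ← map_mul, ← map_mul, hg]
  have h1 : MemLocalRing M (k : ℂ) :=
    mem_locRing_of_isIntegral (by exact_mod_cast (isIntegral_algebraMap (x := (k : ℤ))))
  convert MemLocalIdeal.mul_left h1 (hψ a) using 1
  have e1 : (ψ : C ⧸ N → ℂ) a = (φ : C → ℂ) c := hfe c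
  have e2 : (ψ : C ⧸ N → ℂ) 1 = (φ : C → ℂ) 1 := hfe 1
  rw [centralChar, centralChar, e1, e2, hk, Nat.cast_mul]
  ring

variable {x : G}

theorem regular_mul (hp : p.Prime) (hN : ¬ p ∣ Nat.card N) {u v : C} (hu : ¬ p ∣ orderOf u) (hv : v ∈ N) :
    ¬ p ∣ orderOf (u * v) := by
  intro hd
  have e : QuotientGroup.mk' N (u * v) = QuotientGroup.mk' N u := by
    rw [map_mul, show QuotientGroup.mk' N v = 1 from (QuotientGroup.eq_one_iff v).2 hv, mul_one]
  have hq : (QuotientGroup.mk' N (u * v)) ^ orderOf u = 1 := by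
    rw [e, ← map_pow, pow_orderOf_eq_one, map_one]
  have hm : (u * v) ^ orderOf u ∈ N := by
    rw [← map_pow] at hq
    exact (QuotientGroup.eq_one_iff _).1 hq
  have h1 : orderOf ((u * v) ^ orderOf u) ∣ Nat.card N := Subgroup.orderOf_dvd_natCard N hm
  have h2 : orderOf (u * v) ∣ orderOf u * Nat.card N := by
    refine orderOf_dvd_of_pow_eq_one ?_
    rw [pow_mul]
    exact orderOf_dvd_iff_pow_eq_one.1 h1
  rcases hp.dvd_mul.1 (hd.trans h2) with h3 | h3
  exacts [hu h3, hN h3]

theorem section_expand (hC : C = Subgroup.centralizer ({x} : Set G)) (χ : IrrCharacter G) (w : C) :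
    (χ : G → ℂ) (x * (w : G)) =
      ∑ φ : IrrCharacter C, classInner (secFun x C (χ : G → ℂ)) (φ : C → ℂ) * (φ : C → ℂ) w := by
  have h := congrFun (classFunction_eq_sum
    (isClassFunction_secFun hC (IsCharacter.isClassFunction (irr_isCharacter χ)))) w
  simpa [Finset.sum_apply, Pi.smul_apply, smul_eq_mul, secFun] using h

/-- Principal characters are constant on the cosets of the core. -/
theorem section_const (hM : IsPModular p M) (hx : ∃ k, orderOf x = p ^ k)
    (hC : C = Subgroup.centralizer ({x} : Set G)) (hN : ¬ p ∣ Nat.card N) {χ : IrrCharacter G}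
    (hχ : χ ∈ principalBlock M G) {u v : C} (hu : ¬ p ∣ orderOf u) (hv : v ∈ N) :
    (χ : G → ℂ) (x * ((u * v : C) : G)) = (χ : G → ℂ) (x * (u : G)) := by
  classical
  have hB := isPBlock_principalBlock M G
  have key : ∀ w : C, ¬ p ∣ orderOf w → (χ : G → ℂ) (x * (w : G)) =
      blockPart (principalBlock M C) (secFun x C (χ : G → ℂ)) w := by
    intro w hw
    have h := sum_blockPart (M := M)
      (isClassFunction_secFun hC (IsCharacter.isClassFunction (irr_isCharacter χ))) w
    rw [Finset.sum_eq_single (principalBlock M C)] at h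
    · exact h.symm
    · intro b hb hne
      refine blockPart_secFun_eq_zero hM hx hC hB hχ (mem_blocks.1 hb) (fun hind => hne ?_) hw
      exact Finset.mem_singleton.1 (unitBlocks_principal hM hx hC ▸
        (mem_unitBlocks_iff_induced' hM hx hC hB).2 hind)
    · exact fun h => absurd (mem_blocks.2 (isPBlock_principalBlock M C)) h
  rw [key _ (regular_mul N hM.1 hN hu hv), key _ hu, blockPart_eq_sum, blockPart_eq_sum]
  refine Finset.sum_congr rfl fun φ hφ => ?_
  obtain ⟨f, -, hfe, -⟩ := IsCharacter.deflate (irr_isCharacter φ) N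
    (trivialOn_of_sameBlock hM N hN (χ := Char.principal C) (ψ := φ) (Finset.mem_filter.1 hφ).2
      (fun _ _ => rfl))
  congr 1
  rw [← hfe, ← hfe]
  exact congrArg f (QuotientGroup.eq.2 (by simpa using hv))

/-- The other characters sum to zero on the cosets of the core. -/
theorem section_sum_zero (hM : IsPModular p M) (hx : ∃ k, orderOf x = p ^ k)
    (hC : C = Subgroup.centralizer ({x} : Set G)) (hN : ¬ p ∣ Nat.card N) [Fintype (C ⧸ N)]
    (S : Subgroup (C ⧸ N)) [S.Normal] (hSp : IsPGroup p S)
    (hSc : Subgroup.centralizer (S : Set (C ⧸ N)) ≤ S) {χ : IrrCharacter G}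
    (hχ : χ ∉ principalBlock M G) [Fintype N] {u : C} (hu : ¬ p ∣ orderOf u) :
    ∑ v : N, (χ : G → ℂ) (x * ((u * (v : C) : C) : G)) = 0 := by
  classical
  have hnot : ¬ IsInducedBlock M C (principalBlock M C) (blockOf M (χ : G → ℂ)) := by
    intro hind
    have h0 : IsInducedBlock M C (principalBlock M C) (principalBlock M G) :=
      (mem_unitBlocks_iff_induced' hM hx hC (isPBlock_principalBlock M G)).1
        (by rw [unitBlocks_principal hM hx hC]; exact Finset.mem_singleton_self _)
    exact hχ (isInducedBlock_unique hind h0 ▸ self_mem_blockOf χ)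
  have hzero := blockPart_secFun_eq_zero hM hx hC (isPBlock_blockOf χ) (self_mem_blockOf χ)
    (isPBlock_principalBlock M C) hnot (u := u) hu
  rw [Finset.sum_congr rfl fun (v : N) _ => section_expand hC χ (u * (v : C)), Finset.sum_comm]
  calc ∑ φ : IrrCharacter C, ∑ v : N, classInner (secFun x C (χ : G → ℂ)) (φ : C → ℂ) *
        (φ : C → ℂ) (u * (v : C))
      = ∑ φ : IrrCharacter C, (Nat.card N : ℂ) * (if φ ∈ principalBlock M C then
          classInner (secFun x C (χ : G → ℂ)) (φ : C → ℂ) * (φ : C → ℂ) u else 0) := by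
        refine Finset.sum_congr rfl fun φ _ => ?_
        rw [← Finset.mul_sum]
        by_cases hφ : φ ∈ principalBlock M C
        · rw [if_pos hφ]
          obtain ⟨f, -, hfe, -⟩ := IsCharacter.deflate (irr_isCharacter φ) N
            (trivialOn_of_sameBlock hM N hN (χ := Char.principal C) (ψ := φ) hφ fun _ _ => rfl)
          rw [Finset.sum_congr rfl (g := fun _ => (φ : C → ℂ) u) fun v _ => ?_,
            Finset.sum_const, Finset.card_univ, ← Nat.card_eq_fintype_card, nsmul_eq_mul]
          · ring
          · rw [← hfe, ← hfe]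
            exact congrArg f (QuotientGroup.eq.2 (by simp))
        · rw [if_neg hφ, mul_zero, CharX.sum_coset_eq_zero φ.2 N ?_ _, mul_zero]
          by_contra h
          push Not at h
          exact hφ (mem_principalBlock_of_trivialOn N hM S hSp hSc h)
    _ = (Nat.card N : ℂ) * blockPart (principalBlock M C) (secFun x C (χ : G → ℂ)) u := by
        rw [← Finset.mul_sum, blockPart_eq_sum, ← Finset.sum_filter]
    _ = 0 := by rw [hzero, mul_zero]

end Cfsg.Agent.GridBlock
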